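import Groth.Agent.FlatFPDomLib.Main
import Mathlib

/-!
# Finitely generated submodules over polynomial rings on a Prüfer domain
-/

set_option autoImplicit false

universe u

namespace PruferVanLib

variable {R : Type u} [CommRing R] [IsDomain R]

/-- Finitely generated submodules of finite free modules are finitely presented. -/
theorem finitePresentation_of_fg (hR : ∀ (p : Ideal R) [p.IsPrime], ValuationRing (Localization.AtPrime p))
    {σ : Type} [Finite σ] {κ : Type} [Finite κ] (N : Submodule (MvPolynomial σ R) (κ → MvPolynomial σ R))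
    (hN : N.FG) : Module.FinitePresentation (MvPolynomial σ R) N := by
  haveI : Module.Finite (MvPolynomial σ R) N := Module.Finite.iff_fg.2 hN
  haveI : Module.Flat R N := (Module.Flat.flat_iff_torsion_eq_bot_of_valuationRing_localization_isMaximal
    (fun Q _ => hR Q)).2 (eq_bot_iff.2 fun x hx => by
      obtain ⟨⟨c, hc⟩, hcx⟩ := hx
      have h1 : c • (x : κ → MvPolynomial σ R) = 0 := congrArg Subtype.val hcx
      exact Subtype.ext ((smul_eq_zero.1 h1).resolve_left (nonZeroDivisors.ne_zero hc)))
  exact FlatFPDomLib.finitePresentation_module (R := R)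

/-- Finitely generated submodules of finitely presented modules are finitely presented. -/
theorem finitePresentation_of_injective (hR : ∀ (p : Ideal R) [p.IsPrime], ValuationRing (Localization.AtPrime p))
    {σ : Type} [Finite σ] {N E : Type u} [AddCommGroup N] [Module (MvPolynomial σ R) N]
    [AddCommGroup E] [Module (MvPolynomial σ R) E] [Module.FinitePresentation (MvPolynomial σ R) E]
    [Module.Finite (MvPolynomial σ R) N] (i : N →ₗ[MvPolynomial σ R] E) (hi : Function.Injective i) :
    Module.FinitePresentation (MvPolynomial σ R) N := by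
  obtain ⟨a, π, hπ⟩ := Module.Finite.exists_fin' (MvPolynomial σ R) E
  have hQ : (LinearMap.ker π).FG := Module.FinitePresentation.fg_ker π hπ
  let N' : Submodule (MvPolynomial σ R) (Fin a → MvPolynomial σ R) := (LinearMap.range i).comap π
  have hN' : N'.FG := by
    refine Submodule.fg_of_fg_map_of_fg_inf_ker π ?_ ?_
    · rw [Submodule.map_comap_eq_of_surjective hπ, LinearMap.range_eq_map]
      exact Submodule.FG.map i Module.Finite.fg_top
    · have : N' ⊓ LinearMap.ker π = LinearMap.ker π := inf_eq_right.2 fun x hx => by
        show π x ∈ LinearMap.range i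
        rw [LinearMap.mem_ker.1 hx]
        exact zero_mem _
      rwa [this]
  haveI := finitePresentation_of_fg hR N' hN'
  let e := LinearEquiv.ofInjective i hi
  let f : N' →ₗ[MvPolynomial σ R] N := e.symm.toLinearMap.comp
    (LinearMap.codRestrict (LinearMap.range i) (π.comp N'.subtype) fun x => x.2)
  refine Module.finitePresentation_of_surjective f (fun y => ?_) ?_
  · obtain ⟨x, hx⟩ := hπ (i y)
    refine ⟨⟨x, show π x ∈ LinearMap.range i from hx ▸ ⟨y, rfl⟩⟩, e.injective ?_⟩
    rw [LinearMap.comp_apply, LinearEquiv.coe_coe, LinearEquiv.apply_symm_apply]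
    exact Subtype.ext hx
  · refine Submodule.fg_of_fg_map_injective N'.subtype Subtype.val_injective ?_
    refine (congrArg Submodule.FG ?_).mpr hQ
    ext x
    constructor
    · rintro ⟨y, hy, rfl⟩
      have h1 : e.symm ⟨π y.1, y.2⟩ = 0 := hy
      exact congrArg Subtype.val (e.symm.injective (h1.trans (map_zero e.symm).symm))
    · intro hx
      refine ⟨⟨x, show π x ∈ LinearMap.range i from (LinearMap.mem_ker.1 hx) ▸ zero_mem _⟩, ?_, rfl⟩
      show e.symm _ = 0
      rw [LinearEquiv.map_eq_zero_iff]
      exact Subtype.ext (LinearMap.mem_ker.1 hx)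

end PruferVanLib
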