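import Groth.Agent.GradedCechLib.Main
import Groth.Agent.PruferVanLib.Alg

/-!
# Vanishing for graded submodules of free modules over a Prüfer domain
-/

set_option autoImplicit false

universe u

open CategoryTheory CategoryTheory.Limits MvPolynomial GradedCechLib

namespace PruferVanLib

variable {R : Type u} [CommRing R] {ι : Type} [Fintype ι] [DecidableEq ι]
variable {N : Type u} [AddCommGroup N] [Module (MvPolynomial ι R) N] [Module R N] [IsScalarTower R (MvPolynomial ι R) N]

/-- The homogeneous component of a vector. -/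
noncomputable def comp {κ : Type} (e : κ → ℤ) (d : ℤ) (y : κ → MvPolynomial ι R) : κ → MvPolynomial ι R :=
  fun k => degPart R ι (d + e k) (y k)

theorem comp_mem {κ : Type} [Fintype κ] (e : κ → ℤ) (d : ℤ) (y : κ → MvPolynomial ι R) :
    comp e d y ∈ (freeGrading R κ e).piece d := fun k n hn => by
  rw [comp, coeff_degPart] at hn
  split_ifs at hn with h
  · rw [h]
  · exact absurd rfl hn

theorem genMap_comp {κ κ' : Type} [Fintype κ] [Fintype κ'] (e : κ → ℤ) (e' : κ' → ℤ)
    (h : κ → κ' → MvPolynomial ι R) (hh : ∀ k, h k ∈ (freeGrading R κ' e').piece (-e k)) (d : ℤ)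
    (y : κ → MvPolynomial ι R) :
    genMap (R := R) (ι := ι) h (comp e d y) = comp e' d (genMap (R := R) (ι := ι) h y) := by
  funext l
  simp only [genMap, Fintype.linearCombination_apply, Finset.sum_apply, Pi.smul_apply, smul_eq_mul, comp, map_sum]
  refine Finset.sum_congr rfl fun k _ => ?_
  rw [degPart_mul (d + e' l) (-e k + e' l) _ _ (hh k l)]
  congr 2
  ring_nf

omit [DecidableEq ι] in
theorem exists_sum_comp {κ : Type} [Fintype κ] (e : κ → ℤ) (y : κ → MvPolynomial ι R) :
    ∃ D : Finset ℤ, ∑ d ∈ D, comp e d y = y := by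
  classical
  refine ⟨Finset.univ.biUnion fun k => (y k).support.image fun n => ∑ i, (n i : ℤ) - e k, funext fun k => ?_⟩
  ext n
  rw [Finset.sum_apply, coeff_sum]
  simp only [comp, coeff_degPart]
  by_cases hn : coeff n (y k) = 0
  · simp [hn]
  rw [Finset.sum_eq_single (∑ i, (n i : ℤ) - e k)]
  · rw [if_pos (by ring)]
  · intro d _ hd
    rw [if_neg (fun h => hd (by omega))]
  · intro h
    refine absurd (Finset.mem_biUnion.2 ⟨k, Finset.mem_univ k, Finset.mem_image.2 ⟨n, ?_, rfl⟩⟩) h
    exact mem_support_iff.2 hn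

/-- A graded kernel whose homogeneous elements span a finitely generated submodule is finitely generated. -/
theorem kerGrading_isFG_of_fg {κ : Type} [Fintype κ] (e : κ → ℤ) (g : κ → N)
    (hfg : (Submodule.span (MvPolynomial ι R) {y : LinearMap.ker (genMap (R := R) (ι := ι) g) |
      ∃ d, (y : κ → MvPolynomial ι R) ∈ (freeGrading R κ e).piece d}).FG) :
    IsFG (kerGrading (R := R) (ι := ι) e g) := by
  classical
  let K := LinearMap.ker (genMap (R := R) (ι := ι) g)
  obtain ⟨t, htH, ht⟩ := Submodule.fg_span_iff_fg_span_finset_subset _ |>.1 hfg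
  let r := t.card
  let gg : Fin r → K := fun k => (t.equivFin.symm k : K)
  have hgg : ∀ k, ∃ d, ((gg k : K) : κ → MvPolynomial ι R) ∈ (freeGrading R κ e).piece d := fun k => htH (t.equivFin.symm k).2
  choose dd hdd using hgg
  refine ⟨r, fun k => -dd k, gg, fun k => by rw [neg_neg]; exact hdd k, fun d y hy => ?_⟩
  have hyt : y ∈ Submodule.span (MvPolynomial ι R) (Set.range gg) := by
    have hr : Set.range gg = (t : Set K) := by
      ext z
      refine ⟨by rintro ⟨k, rfl⟩; exact (t.equivFin.symm k).2, fun hz => ⟨t.equivFin ⟨z, hz⟩, by simp [gg]⟩⟩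
    rw [hr, ← ht]
    exact Submodule.subset_span ⟨d, hy⟩
  obtain ⟨c, hc⟩ := (Submodule.mem_span_range_iff_exists_fun (MvPolynomial ι R)).1 hyt
  refine ⟨fun k => degPart R ι (d - dd k) (c k), fun k n hn => ?_, ?_⟩
  · rw [coeff_degPart] at hn
    split_ifs at hn with h
    · rw [h]; ring
    · exact absurd rfl hn
  · apply Subtype.ext
    have hg : ∀ l, ((gg l : K) : κ → MvPolynomial ι R) ∈ (freeGrading R κ e).piece (-(-dd l)) := fun l => by
      rw [neg_neg]; exact hdd l
    have h1 := genMap_comp (fun l => -dd l) e (fun l => ((gg l : K) : κ → MvPolynomial ι R)) hg d c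
    have h2 : comp e d (y : κ → MvPolynomial ι R) = (y : κ → MvPolynomial ι R) := funext fun k => by
      ext n
      simp only [comp, coeff_degPart]
      split_ifs with h
      · rfl
      · exact (by_contra fun hne => h (hy k n (Ne.symm hne)) : (0 : R) = _)
    have hval : ∀ z : Fin r → MvPolynomial ι R, ((genMap (R := R) (ι := ι) gg z : K) : κ → MvPolynomial ι R) =
        genMap (R := R) (ι := ι) (fun l => ((gg l : K) : κ → MvPolynomial ι R)) z := fun z => by
      simp only [genMap, Fintype.linearCombination_apply, Submodule.coe_sum, Submodule.coe_smul]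
    rw [hval]
    refine (congrArg _ (funext fun l => ?_)).trans (h1.trans ?_)
    · show _ = degPart R ι (d + -dd l) (c l)
      rw [sub_eq_add_neg]
    · rw [← hval c]
      refine (congrArg (fun z : K => comp e d (z : κ → MvPolynomial ι R)) ?_).trans h2
      rw [genMap, Fintype.linearCombination_apply]
      exact hc

/-- A finitely generated graded module inside a free one. -/
def InFree (G : Grading R ι N) : Prop :=
  IsFG G ∧ ∃ (m : ℕ) (e : Fin m → ℤ) (φ : N →ₗ[MvPolynomial ι R] (Fin m → MvPolynomial ι R)),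
    Function.Injective φ ∧ IsHom G (freeGrading R (Fin m) e) φ

theorem inFree_ker [IsDomain R] (hR : ∀ (p : Ideal R) [p.IsPrime], ValuationRing (Localization.AtPrime p))
    {r : ℕ} (e : Fin r → ℤ) (g : Fin r → N) (G : Grading R ι N) (hG : ∀ k, g k ∈ G.piece (-e k))
    {m : ℕ} (e' : Fin m → ℤ) (φ : N →ₗ[MvPolynomial ι R] (Fin m → MvPolynomial ι R))
    (hφ : Function.Injective φ) (hφG : IsHom G (freeGrading R (Fin m) e') φ) :
    InFree (kerGrading (R := R) (ι := ι) e g) := by
  refine ⟨?_, r, e, (LinearMap.ker (genMap (R := R) (ι := ι) g)).subtype, Subtype.val_injective,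
    fun _ _ hy => hy⟩
  refine kerGrading_isFG_of_fg e g ?_
  let K := LinearMap.ker (genMap (R := R) (ι := ι) g)
  let h : Fin r → Fin m → MvPolynomial ι R := fun k => φ (g k)
  have hcomp : genMap (R := R) (ι := ι) h = φ.comp (genMap (R := R) (ι := ι) g) := LinearMap.ext fun z => by
    simp [h, genMap, Fintype.linearCombination_apply]
  have hspan : Submodule.span (MvPolynomial ι R) {y : K |
      ∃ d, (y : Fin r → MvPolynomial ι R) ∈ (freeGrading R (Fin r) e).piece d} = ⊤ := by
    refine eq_top_iff.2 fun y _ => ?_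
    obtain ⟨D, hD⟩ := exists_sum_comp e (y : Fin r → MvPolynomial ι R)
    have hk : ∀ d, comp e d (y : Fin r → MvPolynomial ι R) ∈ K := fun d => by
      rw [LinearMap.mem_ker]
      refine hφ ?_
      have h1 := genMap_comp e e' h (fun k => hφG _ _ (hG k)) d (y : Fin r → MvPolynomial ι R)
      rw [hcomp, LinearMap.comp_apply, LinearMap.comp_apply, LinearMap.mem_ker.1 y.2, map_zero] at h1
      rw [map_zero]
      exact h1.trans (funext fun l => map_zero _)
    have : y = ∑ d ∈ D, (⟨comp e d y, hk d⟩ : K) := Subtype.ext (by rw [Submodule.coe_sum]; exact hD.symm)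
    rw [this]
    exact Submodule.sum_mem _ fun d _ => Submodule.subset_span ⟨d, comp_mem e d _⟩
  show (Submodule.span (MvPolynomial ι R) _).FG
  rw [hspan]
  have hk' : LinearMap.ker (genMap (R := R) (ι := ι) h) = K := by
    rw [hcomp, LinearMap.ker_comp, LinearMap.ker_eq_bot.2 hφ, Submodule.comap_bot]
  haveI := finitePresentation_of_fg hR (LinearMap.range (genMap (R := R) (ι := ι) h))
    (by rw [LinearMap.range_eq_map]; exact Submodule.FG.map _ Module.Finite.fg_top)
  have hfg := Module.FinitePresentation.fg_ker (genMap (R := R) (ι := ι) h).rangeRestrict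
    (LinearMap.surjective_rangeRestrict _)
  rw [LinearMap.ker_rangeRestrict, hk'] at hfg
  haveI : Module.Finite (MvPolynomial ι R) K := Module.Finite.iff_fg.2 hfg
  exact Module.Finite.fg_top

/-- **Vanishing in high degrees, inside free modules.** -/
theorem exists_isZero_H [IsDomain R] [Nonempty ι]
    (hR : ∀ (p : Ideal R) [p.IsPrime], ValuationRing (Localization.AtPrime p))
    (G : Grading R ι N) (hG : InFree G) (p : ℕ) :
    ∃ d₀ : ℤ, ∀ d, d₀ ≤ d → IsZero (H (locSys G d) (p + 1)) := by
  obtain ⟨j, hj⟩ : ∃ j, j = Fintype.card ι - (p + 1) := ⟨_, rfl⟩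
  induction j generalizing p N with
  | zero => exact ⟨0, fun d _ => isZero_H_of_card_le G d (p + 1) (by omega)⟩
  | succ j ih =>
    obtain ⟨⟨r, e, g, hg, hgen⟩, m, e', φ, hφ, hφG⟩ := hG
    obtain ⟨d₁, hd₁⟩ := ih (kerGrading e g) (inFree_ker hR e g G hg e' φ hφ hφG) (p + 1) (by omega)
    refine ⟨max d₁ (∑ k, |e k|), fun d hd => ?_⟩
    refine isZero_right (exact3_sys (grExact_gen G e g hg hgen) d) (p + 1) (isZero_H_free (Fin r) e d (fun k => ?_) p)
      (hd₁ d (le_trans (le_max_left _ _) hd))
    have h1 : |e k| ≤ ∑ k, |e k| := Finset.single_le_sum (f := fun k => |e k|) (fun i _ => abs_nonneg _) (Finset.mem_univ k)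
    have h2 := le_trans h1 (le_trans (le_max_right d₁ _) hd)
    have h3 := neg_abs_le (e k)
    have h4 : (0 : ℤ) < Fintype.card ι := by exact_mod_cast Fintype.card_pos
    omega

end PruferVanLib
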