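import Groth.Agent.AtlasCohLib.Coh
import Groth.Agent.PruferVanLib.Graded

/-!
# Serre vanishing over an atlas on a Prüfer domain
-/

set_option autoImplicit false

universe u

open CategoryTheory CategoryTheory.Limits AlgebraicGeometry TopologicalSpace MvPolynomial
open GradedCechLib (Grading Loc locPiece locSys frac pw xs genMap freeGrading IsFG IsHom sysMap locMap locMap_frac
  pow_xs_smul_mem genMap_isHom kerGrading grExact_gen exact3_sys hIsoOfBijective H frac_mul)
open QCohLib (HU)

namespace PruferVanLib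

open AtlasCoh

section Theta

variable {n : ℕ} {R : Type u} [CommRing R]

/-- Setting a variable to one. -/
noncomputable def θ (i : Fin (n + 1)) : Poly n R →ₐ[R] Poly n R := aeval (Function.update X i 1)

theorem θ_X_self (i : Fin (n + 1)) : θ (R := R) i (X i) = 1 := by simp [θ]

theorem θ_X_ne {i j : Fin (n + 1)} (h : j ≠ i) : θ (R := R) i (X j) = X j := by simp [θ, h]

theorem θ_comp_eq {T : Type u} [CommRing T] (f : Poly n R →+* T) (i : Fin (n + 1)) (hf : f (X i) = 1)
    (p : Poly n R) : f (θ i p) = f p := by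
  have : f.comp (θ (R := R) i).toRingHom = f := by
    refine MvPolynomial.ringHom_ext (fun r => ?_) fun j => ?_
    · show f (θ i (C r)) = _
      rw [← MvPolynomial.algebraMap_eq, AlgHom.commutes]
    · show f (θ i (X j)) = _
      rcases eq_or_ne j i with rfl | h
      · rw [θ_X_self, map_one, hf]
      · rw [θ_X_ne h]
  exact congrArg (fun φ : Poly n R →+* T => φ p) this

theorem θ_injective_homogeneous (i : Fin (n + 1)) (p : Poly n R) (D : ℤ)
    (hp : ∀ a, p.coeff a ≠ 0 → ∑ j, (a j : ℤ) = D) (h : θ i p = 0) : p = 0 := by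
  refine GradedCechLib.deh_injective_homogeneous i p D.toNat (fun a ha => ?_) ?_
  · have h1 := hp a ha
    rw [Finsupp.weight_apply, Finsupp.sum_fintype _ _ (fun _ => by simp)]
    simp only [Pi.one_apply, smul_eq_mul, mul_one]
    rw [← Nat.cast_sum] at h1
    omega
  · rw [← θ_comp_eq (GradedCechLib.deh n R i) i (GradedCechLib.deh_X_self n R i), h, map_zero]

/-- Homogenisation. -/
theorem exists_hom_θ (i : Fin (n + 1)) (p : Poly n R) : ∃ B : ℤ, ∀ D : ℤ, B ≤ D →
    ∃ q : Poly n R, (∀ a, q.coeff a ≠ 0 → ∑ j, (a j : ℤ) = D) ∧ θ i q = θ i p := by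
  induction p using MvPolynomial.induction_on' with
  | monomial a r =>
    refine ⟨∑ j, (a j : ℤ), fun D hD => ⟨monomial (Finsupp.single i (D - ∑ j, (a j : ℤ)).toNat + a) r, fun b hb => ?_, ?_⟩⟩
    · rw [coeff_monomial] at hb
      split_ifs at hb with h
      · rw [← h]
        simp only [Finsupp.add_apply, Nat.cast_add, Finset.sum_add_distrib]
        simp [Finsupp.single_apply]
        omega
      · exact absurd rfl hb
    · rw [show monomial (Finsupp.single i (D - ∑ j, (a j : ℤ)).toNat + a) r =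
        X i ^ (D - ∑ j, (a j : ℤ)).toNat * monomial a r by rw [X_pow_eq_monomial, monomial_mul, one_mul], map_mul, map_pow,
        θ_X_self, one_pow, one_mul]
  | add p q hp hq =>
    obtain ⟨B, hB⟩ := hp
    obtain ⟨B', hB'⟩ := hq
    refine ⟨max B B', fun D hD => ?_⟩
    obtain ⟨p', hp', ep⟩ := hB D (le_trans (le_max_left _ _) hD)
    obtain ⟨q', hq', eq⟩ := hB' D (le_trans (le_max_right _ _) hD)
    refine ⟨p' + q', fun a ha => ?_, by rw [map_add, map_add, ep, eq]⟩
    by_cases h : p'.coeff a = 0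
    · exact hq' a fun h' => ha (by rw [coeff_add, h, h', add_zero])
    · exact hp' a h

/-- Homogenisation of a vector. -/
theorem exists_hom_θ_vec {r : ℕ} (i : Fin (n + 1)) (e : Fin r → ℤ) (z : Fin r → Poly n R) :
    ∃ B : ℤ, ∀ D : ℤ, B ≤ D → ∃ q ∈ (freeGrading R (Fin r) e).piece D, ∀ l, θ i (q l) = θ i (z l) := by
  choose B hB using fun l => exists_hom_θ i (z l)
  refine ⟨∑ l, |B l - e l|, fun D hD => ?_⟩
  have h : ∀ l, B l ≤ D + e l := fun l => by
    have h1 : |B l - e l| ≤ ∑ l, |B l - e l| :=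
      Finset.single_le_sum (f := fun l => |B l - e l|) (fun _ _ => abs_nonneg _) (Finset.mem_univ l)
    have h2 := le_abs_self (B l - e l)
    omega
  choose q hq hqz using fun l => hB l (D + e l) (h l)
  exact ⟨q, hq, hqz⟩

end Theta

variable {Y : Scheme.{u}} {n : ℕ} {C : Coords n Y} {Ω : Y.Opens} {R : Type u} [CommRing R] (A : Atlas C Ω R)
  (M : Y.Modules)

/-- The value of a vector on a chart. -/
noncomputable def evC {r : ℕ} (g : Fin r → Fam A M) (i : Fin (n + 1)) :
    (Fin r → Poly n R) →ₗ[Poly n R] Sec A M i (Ω ⊓ C.U i) le_rfl :=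
  (LinearMap.proj i).comp (genMap (R := R) (ι := Fin (n + 1)) g)

theorem toΓ_evC {r : ℕ} (g : Fin r → Fam A M) (i : Fin (n + 1)) (c : Fin r → Poly n R) :
    toΓ A M (evC A M g i c) = ∑ l, A.deh i (c l) • toΓ A M (g l i) := by
  show toΓ A M ((Fintype.linearCombination (Poly n R) g c) i) = _
  rw [Fintype.linearCombination_apply, Finset.sum_apply, map_sum]
  exact Finset.sum_congr rfl fun l _ => by rw [Pi.smul_apply, toΓ_smul, resO_self]

theorem evC_congr {r : ℕ} (g : Fin r → Fam A M) (i : Fin (n + 1)) {c c' : Fin r → Poly n R}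
    (h : ∀ l, θ i (c l) = θ i (c' l)) : evC A M g i c = evC A M g i c' := by
  apply (toΓ A M).injective
  rw [toΓ_evC, toΓ_evC]
  refine Finset.sum_congr rfl fun l _ => ?_
  rw [← θ_comp_eq (A.deh i) i (A.deh_X_self i) (c l), h, θ_comp_eq (A.deh i) i (A.deh_X_self i) (c' l)]

variable [Coh.IsQCoh M]

/-- A homogeneous vector vanishing on a chart is killed by a power of the coordinate. -/
theorem exists_pow_smul_mem {r : ℕ} (e : Fin r → ℤ) (g : Fin r → Fam A M)
    (hg : ∀ k, g k ∈ (famGrading A M).piece (-e k)) (i : Fin (n + 1)) {d : ℤ} (y : Fin r → Poly n R)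
    (hy : y ∈ (freeGrading R (Fin r) e).piece d) (h0 : evC A M g i y = 0) :
    ∃ k : ℕ, genMap (R := R) (ι := Fin (n + 1)) g ((X i : Poly n R) ^ k • y) = 0 := by
  classical
  let a := genMap (R := R) (ι := Fin (n + 1)) g y
  have ha : a ∈ (famGrading A M).piece d := genMap_isHom (famGrading A M) e g hg d y hy
  have hk : ∀ j, ∃ k : ℕ, A.deh j (X i) ^ k • toΓ A M (a j) = 0 := fun j => by
    refine eq_zero_chart M (A.isAffineOpen_chart j) _ (inf_le_left : Ω ⊓ C.U j ⊓ C.U i ≤ Ω ⊓ C.U j)
      (A.basicOpen_deh_X j i) _ ?_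
    rw [ha j i _ inf_le_left (le_inf (inf_le_left.trans inf_le_left) inf_le_right),
      show a i = 0 from h0, map_zero, map_zero, smul_zero]
  choose k hk using hk
  refine ⟨Finset.univ.sup k, funext fun j => (toΓ A M).injective ?_⟩
  obtain ⟨c, hc⟩ := Nat.exists_eq_add_of_le' (Finset.le_sup (f := k) (Finset.mem_univ j))
  rw [map_smul, Pi.smul_apply, toΓ_smul, resO_self, map_pow, Pi.zero_apply, map_zero, hc, pow_add, mul_smul,
    hk j, smul_zero]

variable [IsDomain R]

/-- The kernel of generators is, up to powers of coordinates, finitely generated. -/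
theorem exists_kernel_gens (hfp : ∀ i, Module.FinitePresentation (Poly n R) (Sec A M i (Ω ⊓ C.U i) le_rfl))
    {r : ℕ} (e : Fin r → ℤ) (g : Fin r → Fam A M) (hg : ∀ k, g k ∈ (famGrading A M).piece (-e k))
    (hgen : ∀ (i : Fin (n + 1)) (t : Γ(M, Ω ⊓ C.U i)), ∃ c : Fin r → Poly n R, ∑ k, A.deh i (c k) • toΓ A M (g k i) = t) :
    ∃ (s : ℕ) (E : Fin s → ℤ) (z : Fin s → LinearMap.ker (genMap (R := R) (ι := Fin (n + 1)) g)),
      (∀ m, z m ∈ (kerGrading (R := R) (ι := Fin (n + 1)) e g).piece (-E m)) ∧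
      ∀ (i : Fin (n + 1)) (d : ℤ) (y : LinearMap.ker (genMap (R := R) (ι := Fin (n + 1)) g)),
        y ∈ (kerGrading (R := R) (ι := Fin (n + 1)) e g).piece d →
        ∃ (N : ℕ) (c : Fin s → Poly n R), c ∈ (freeGrading R (Fin s) E).piece (d + N) ∧
          genMap (R := R) (ι := Fin (n + 1)) z c = (X i : Poly n R) ^ N • y := by
  classical
  have hfg : ∀ i, (LinearMap.ker (evC A M g i)).FG := fun i => by
    haveI := hfp i
    refine Module.FinitePresentation.fg_ker _ fun t => ?_
    obtain ⟨c, hc⟩ := hgen i (toΓ A M t)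
    exact ⟨c, (toΓ A M).injective ((toΓ_evC A M g i c).trans hc)⟩
  choose t ht using hfg
  have hz : ∀ (i : Fin (n + 1)) (w : t i), ∃ (D : ℤ) (q : LinearMap.ker (genMap (R := R) (ι := Fin (n + 1)) g)),
      q ∈ (kerGrading (R := R) (ι := Fin (n + 1)) e g).piece D ∧
      ∀ l, θ i ((q : Fin r → Poly n R) l) = θ i ((w : Fin r → Poly n R) l) := by
    intro i w
    obtain ⟨B, hB⟩ := exists_hom_θ_vec i e (w : Fin r → Poly n R)
    obtain ⟨q, hq, hqw⟩ := hB B le_rfl
    have h0 : evC A M g i q = 0 := (evC_congr A M g i hqw).trans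
      (LinearMap.mem_ker.1 (ht i ▸ Submodule.subset_span w.2))
    obtain ⟨k, hk⟩ := exists_pow_smul_mem A M e g hg i q hq h0
    refine ⟨B + k, ⟨(X i : Poly n R) ^ k • q, hk⟩, ?_, fun l => ?_⟩
    · show (X i : Poly n R) ^ k • q ∈ (freeGrading R (Fin r) e).piece (B + k)
      have := pow_xs_smul_mem (freeGrading R (Fin r) e) {i} k hq (show B + (k : ℤ) = B + k * (({i} : Finset _).card : ℤ) by simp)
      rwa [xs, Finset.prod_singleton] at this
    · show θ i (((X i : Poly n R) ^ k • q) l) = _
      rw [Pi.smul_apply, smul_eq_mul, map_mul, map_pow, θ_X_self, one_pow, one_mul, hqw]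
  choose D q hqD hqθ using hz
  let Ee := Fintype.equivFin (Σ i, t i)
  refine ⟨_, fun m => -(D (Ee.symm m).1 (Ee.symm m).2), fun m => q (Ee.symm m).1 (Ee.symm m).2,
    fun m => by rw [neg_neg]; exact hqD _ _, fun i d y hy => ?_⟩
  let z : Fin (Fintype.card (Σ i, t i)) → LinearMap.ker (genMap (R := R) (ι := Fin (n + 1)) g) :=
    fun m => q (Ee.symm m).1 (Ee.symm m).2
  let E : Fin (Fintype.card (Σ i, t i)) → ℤ := fun m => -(D (Ee.symm m).1 (Ee.symm m).2)
  have hyi : (y : Fin r → Poly n R) ∈ LinearMap.ker (evC A M g i) := by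
    rw [LinearMap.mem_ker, evC, LinearMap.comp_apply, LinearMap.mem_ker.1 y.2, map_zero]
  rw [← ht i] at hyi
  obtain ⟨b, hb⟩ := (Submodule.mem_span_range_iff_exists_fun (Poly n R) (v := fun w : t i => (w : Fin r → Poly n R))).1
    (by rw [Subtype.range_coe_subtype]; exact hyi)
  let b' : Fin (Fintype.card (Σ i, t i)) → Poly n R := fun m =>
    if h : (Ee.symm m).1 = i then b (h ▸ (Ee.symm m).2) else 0
  obtain ⟨B, hB⟩ := exists_hom_θ_vec i E b'
  obtain ⟨N, hN⟩ : ∃ N : ℕ, B ≤ d + N := ⟨(B - d).toNat, by omega⟩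
  obtain ⟨c, hc, hcb⟩ := hB (d + N) hN
  refine ⟨N, c, hc, Subtype.ext (funext fun l => ?_)⟩
  have hval : ((genMap (R := R) (ι := Fin (n + 1)) z c : LinearMap.ker (genMap (R := R) (ι := Fin (n + 1)) g)) :
      Fin r → Poly n R) = genMap (R := R) (ι := Fin (n + 1)) (fun m => (z m : Fin r → Poly n R)) c := by
    change ((Fintype.linearCombination (Poly n R) z c : LinearMap.ker _) : Fin r → Poly n R) = _
    rw [Fintype.linearCombination_apply, Submodule.coe_sum]
    exact ((Fintype.linearCombination_apply (Poly n R) (fun m => (z m : Fin r → Poly n R)) c).trans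
      (Finset.sum_congr rfl fun m _ => rfl)).symm
  have hpc : genMap (R := R) (ι := Fin (n + 1)) (fun m => (z m : Fin r → Poly n R)) c ∈
      (freeGrading R (Fin r) e).piece (d + N) :=
    genMap_isHom (freeGrading R (Fin r) e) E (fun m => (z m : Fin r → Poly n R))
      (fun m => by show (z m : Fin r → Poly n R) ∈ (freeGrading R (Fin r) e).piece (- -(D _ _)); rw [neg_neg]; exact hqD _ _) _ c hc
  have hpy : (X i : Poly n R) ^ N • (y : Fin r → Poly n R) ∈ (freeGrading R (Fin r) e).piece (d + N) := by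
    have := pow_xs_smul_mem (freeGrading R (Fin r) e) {i} N (show (y : Fin r → Poly n R) ∈ (freeGrading R (Fin r) e).piece d from hy) (show d + (N : ℤ) = d + N * (({i} : Finset _).card : ℤ) by simp)
    rwa [xs, Finset.prod_singleton] at this
  rw [hval]
  refine sub_eq_zero.1 (θ_injective_homogeneous i _ (d + N + e l) (fun a ha => ?_) ?_)
  · exact ((freeGrading R (Fin r) e).piece (d + N)).sub_mem hpc hpy l a ha
  · rw [map_sub, Submodule.coe_smul, Pi.smul_apply, smul_eq_mul, map_mul, map_pow, θ_X_self, one_pow, one_mul,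
      sub_eq_zero, genMap, Fintype.linearCombination_apply, Finset.sum_apply, map_sum]
    simp only [Pi.smul_apply, smul_eq_mul, map_mul, hcb]
    rw [← hb, Finset.sum_apply, map_sum]
    simp only [Pi.smul_apply, smul_eq_mul, map_mul]
    rw [← Equiv.sum_comp Ee, Fintype.sum_sigma, Finset.sum_eq_single i]
    · refine Finset.sum_congr rfl fun w _ => ?_
      have key : ∀ x : Σ i, t i, x = ⟨i, w⟩ → ∀ h : x.1 = i,
          θ i (b (h ▸ x.2)) * θ i ((q x.1 x.2 : Fin r → Poly n R) l) = θ i (b w) * θ i ((w : Fin r → Poly n R) l) := by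
        rintro _ rfl _
        simp [hqθ]
      simp only [b', z]
      rw [dif_pos (by rw [Equiv.symm_apply_apply])]
      exact key _ (Ee.symm_apply_apply _) _
    · intro i' _ hi'
      exact Finset.sum_eq_zero fun w _ => by simp [b', hi']
    · exact fun h => absurd (Finset.mem_univ i) h

/-- The subgrading of the kernel given by chosen generators. -/
noncomputable def subGrading {r s : ℕ} (g : Fin r → Fam A M) (E : Fin s → ℤ)
    (z : Fin s → LinearMap.ker (genMap (R := R) (ι := Fin (n + 1)) g)) :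
    Grading R (Fin (n + 1)) (LinearMap.ker (genMap (R := R) (ι := Fin (n + 1)) g)) where
  piece d := ((freeGrading R (Fin s) E).piece d).map ((genMap (R := R) (ι := Fin (n + 1)) z).restrictScalars R)
  X_smul_mem i d y hy := by
    obtain ⟨f, hf, rfl⟩ := hy
    exact ⟨(X i : Poly n R) • f, (freeGrading R (Fin s) E).X_smul_mem i d f hf, map_smul (genMap (R := R) z) (X i : Poly n R) f⟩

omit [IsDomain R] [Coh.IsQCoh M] in
theorem isFG_subGrading {r s : ℕ} (g : Fin r → Fam A M) (E : Fin s → ℤ)
    (z : Fin s → LinearMap.ker (genMap (R := R) (ι := Fin (n + 1)) g)) : IsFG (subGrading A M g E z) := by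
  classical
  refine ⟨s, E, z, fun k => ⟨Pi.single k 1, fun l a h => ?_, ?_⟩, fun d y hy => hy⟩
  · rcases eq_or_ne l k with rfl | hl
    · rw [Pi.single_eq_same, coeff_one] at h
      split_ifs at h with h0
      · simp [← h0]
      · exact absurd rfl h
    · rw [Pi.single_eq_of_ne hl, coeff_zero] at h
      exact absurd rfl h
  · show Fintype.linearCombination (Poly n R) z (Pi.single k 1) = z k
    rw [Fintype.linearCombination_apply_single, one_smul]

include A in
/-- **Serre vanishing over an atlas on a Prüfer domain.** -/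
theorem exists_subsingleton_HU_tw (hR : ∀ (p : Ideal R) [p.IsPrime], ValuationRing (Localization.AtPrime p))
    (hC : ⨆ i, C.U i = ⊤) (hM : CohB1.IsFT M)
    (hfp : ∀ i, Module.FinitePresentation (Poly n R) (Sec A M i (Ω ⊓ C.U i) le_rfl)) :
    ∃ d₀ : ℤ, ∀ d, d₀ ≤ d → ∀ p : ℕ, Subsingleton (HU (Coh.toAb (tw M C d)) (p + 1) Ω) := by
  classical
  obtain ⟨r, e, g, hg, hgen⟩ := exists_generators A M hM
  obtain ⟨s, E, z, hz, hzgen⟩ := exists_kernel_gens A M hfp e g hg hgen
  have hhom : IsHom (subGrading A M g E z) (kerGrading (R := R) (ι := Fin (n + 1)) e g) LinearMap.id := by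
    rintro d _ ⟨f, hf, rfl⟩
    exact genMap_isHom (kerGrading (R := R) (ι := Fin (n + 1)) e g) E z hz d f hf
  have hfree : InFree (subGrading A M g E z) :=
    ⟨isFG_subGrading A M g E z, r, e, (LinearMap.ker (genMap (R := R) (ι := Fin (n + 1)) g)).subtype,
      Subtype.val_injective, fun d y hy => hhom d y hy⟩
  have hbij : ∀ (d : ℤ) (S : Finset (Fin (n + 1))), S.Nonempty →
      Function.Bijective ((sysMap (subGrading A M g E z) (kerGrading (R := R) (ι := Fin (n + 1)) e g) LinearMap.id hhom d).app S).hom := by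
    intro d S hS
    have hid : ∀ w, locMap (R := R)
        (LinearMap.id : LinearMap.ker (genMap (R := R) (ι := Fin (n + 1)) g) →ₗ[Poly n R] _) S w = w := fun w => by
      induction w using LocalizedModule.induction_on with
      | h y x => obtain ⟨_, m, rfl⟩ := x; exact locMap_frac LinearMap.id S y m
    refine ⟨fun (a : locPiece (subGrading A M g E z) d S) (b : locPiece (subGrading A M g E z) d S) h => ?_,
      fun (w : locPiece (kerGrading (R := R) (ι := Fin (n + 1)) e g) d S) => ?_⟩
    · have h' := congrArg Subtype.val h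
      refine Subtype.ext ?_
      rw [← hid (a : Loc R _ S), ← hid (b : Loc R _ S)]
      exact h'
    · obtain ⟨w, m, y, hy, rfl⟩ := w
      obtain ⟨i₀, hi₀⟩ := hS
      obtain ⟨N, c, hc, hcy⟩ := hzgen i₀ _ y hy
      have hy0 : (X i₀ : Poly n R) ^ N • y ∈ (subGrading A M g E z).piece (d + m * (S.card : ℤ) + N) :=
        ⟨c, hc, hcy⟩
      have hy1 : xs R S ^ N • y ∈ (subGrading A M g E z).piece (d + ((m + N : ℕ) : ℤ) * (S.card : ℤ)) := by
        rw [show xs R S = xs R (S.erase i₀) * X i₀ from (Finset.prod_erase_mul S _ hi₀).symm, mul_pow, mul_smul]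
        refine pow_xs_smul_mem (subGrading A M g E z) _ N hy0 ?_
        rw [← Finset.card_erase_add_one hi₀]
        push_cast
        ring
      refine ⟨(⟨frac S (xs R S ^ N • y) (m + N), m + N, _, hy1, rfl⟩ : locPiece (subGrading A M g E z) d S),
        Subtype.ext ((hid _).trans (frac_mul S y m N))⟩
  choose d₁ hd₁ using fun p : Fin (n + 1) => exists_isZero_H hR (subGrading A M g E z) hfree ((p : ℕ) + 1)
  refine ⟨∑ p, |d₁ p| + ∑ k, |e k|, fun d hd p => ?_⟩
  have := isQCoh_tw M C d hC
  obtain ⟨f⟩ := nonempty_HU_equiv A (tw M C d) (p + 1)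
  suffices h : IsZero (H (secSys A (tw M C d)) (p + 1)) by
    have := ModuleCat.subsingleton_of_isZero h
    exact f.symm.injective.subsingleton
  refine IsZero.of_iso ?_
    (hIsoOfBijective (genSys A M e g hg d) (genSys_bijective A M e g hg hgen d) (p + 1)).symm
  have hsum : ∀ k, |e k| ≤ ∑ k, |e k| := fun k =>
    Finset.single_le_sum (f := fun k => |e k|) (fun i _ => abs_nonneg _) (Finset.mem_univ k)
  by_cases hp : p < n + 1
  · refine GradedCechLib.isZero_right (exact3_sys (grExact_gen (genGrading A M e g) e g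
      (fun k => ?_) (fun d y hy => hy)) d) (p + 1)
      (GradedCechLib.isZero_H_free (Fin r) e d (fun k => ?_) p) ?_
    · refine ⟨Pi.single k 1, fun l a h => ?_, ?_⟩
      · rcases eq_or_ne l k with rfl | hl
        · rw [Pi.single_eq_same, coeff_one] at h
          split_ifs at h with h0
          · simp [← h0]
          · exact absurd rfl h
        · rw [Pi.single_eq_of_ne hl, coeff_zero] at h
          exact absurd rfl h
      · show genMap (R := R) (ι := Fin (n + 1)) g (Pi.single k 1) = g k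
        rw [genMap, Fintype.linearCombination_apply_single, one_smul]
    · have h0 : 0 ≤ ∑ p, |d₁ p| := Finset.sum_nonneg fun _ _ => abs_nonneg _
      have h2 := hsum k
      have h3 := neg_abs_le (e k)
      simp only [Fintype.card_fin]
      omega
    · refine IsZero.of_iso (hd₁ ⟨p, hp⟩ d ?_)
        (hIsoOfBijective _ (hbij d) (p + 1 + 1)).symm
      have h1 : |d₁ ⟨p, hp⟩| ≤ ∑ p, |d₁ p| := Finset.single_le_sum (f := fun p => |d₁ p|) (fun _ _ => abs_nonneg _) (Finset.mem_univ _)
      have h2 := le_abs_self (d₁ ⟨p, hp⟩)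
      have h3 : 0 ≤ ∑ k, |e k| := Finset.sum_nonneg fun _ _ => abs_nonneg _
      omega
  · exact GradedCechLib.isZero_H_of_card_le _ d (p + 1) (by simp; omega)

end PruferVanLib
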