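import Groth.Agent.PruferVanLib.Chart
import Groth.Agent.SerreVanLib.Main
import Groth.Agent.PnCohLib.EmbeddedVan
import Groth.Agent.RichLib.IsFPAffine
import Groth.Agent.FittLib.Sheaf
import Groth.Agent.HilbPolyLib.Twist
import Groth.Agent.QCohLib.SerreCrit

/-!
# Serre vanishing on flat projective schemes over a Prüfer domain
-/

set_option autoImplicit false
set_option linter.style.haveILetI false
universe u

open CategoryTheory CategoryTheory.Limits AlgebraicGeometry TopologicalSpace Opposite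
open ChowLib RelProjLib AmpleLib AmpleThLib
open QCohLib (toAbF)

noncomputable section

namespace PruferVanLib

open SerreVanLib

variable {X : Scheme.{u}} {R : Type u} [CommRing R] [IsDomain R]

/-- The chart sections of a submodule of a finitely presented module are finitely presented over the
polynomial ring. -/
theorem finitePresentation_sec (hR : ∀ (p : Ideal R) [p.IsPrime], ValuationRing (Localization.AtPrime p))
    {n : ℕ} {C : AtlasCoh.Coords n X} {Ω : X.Opens} (A : AtlasCoh.Atlas C Ω R)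
    {M E : X.Modules} [Coh.IsQCoh M] [Coh.IsQCoh E] (hM : CohB1.IsFT M) (hE : CohB1.IsFP E) (ι : M ⟶ E) [Mono ι]
    (i : Fin (n + 1)) (hflat : (A.cstOn (inf_le_left : Ω ⊓ C.U i ≤ Ω)).Flat) :
    Module.FinitePresentation (AtlasCoh.Poly n R) (AtlasCoh.Sec A M i (Ω ⊓ C.U i) le_rfl) := by
  let W := Ω ⊓ C.U i
  let P := AtlasCoh.Poly n R
  letI : Algebra R Γ(X, W) := (A.cstOn (inf_le_left : Ω ⊓ C.U i ≤ Ω)).toAlgebra
  letI : Algebra P Γ(X, W) := ((AtlasCoh.resO (le_refl W)).comp (A.deh i)).toAlgebra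
  haveI : IsScalarTower R P Γ(X, W) := IsScalarTower.of_algebraMap_eq fun r => by
    show _ = AtlasCoh.resO (le_refl W) (A.deh i (algebraMap R P r))
    rw [MvPolynomial.algebraMap_eq, A.deh_C, AtlasCoh.resO_self]
    rfl
  have hsurj : Function.Surjective (algebraMap P Γ(X, W)) := fun y => by
    obtain ⟨p, hp⟩ := A.deh_surjective i y
    exact ⟨p, (AtlasCoh.resO_self _ _).trans hp⟩
  haveI : Module.Finite P Γ(X, W) := Module.Finite.of_surjective (Algebra.linearMap P Γ(X, W)) hsurj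
  haveI : Module.Flat R Γ(X, W) := hflat
  haveI : Module.FinitePresentation P Γ(X, W) := FlatFPDomLib.finitePresentation_module (R := R)
  haveI : Module.FinitePresentation Γ(X, W) Γ(E, W) := FittLib.finitePresentation_affine E hE (A.isAffineOpen_chart i)
  letI : Module P Γ(E, W) := Module.compHom Γ(E, W) (algebraMap P Γ(X, W))
  haveI : IsScalarTower P Γ(X, W) Γ(E, W) := IsScalarTower.of_algebraMap_smul fun _ _ => rfl
  haveI : Module.FinitePresentation P Γ(E, W) := Module.FinitePresentation.trans (R := P) Γ(E, W) Γ(X, W)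
  haveI : Module.Finite Γ(X, W) Γ(M, W) := QCohLib.finite_of_isFT hM (A.isAffineOpen_chart i)
  letI : Module P Γ(M, W) := Module.compHom Γ(M, W) (algebraMap P Γ(X, W))
  haveI : IsScalarTower P Γ(X, W) Γ(M, W) := IsScalarTower.of_algebraMap_smul fun _ _ => rfl
  haveI : Module.Finite P Γ(M, W) := Module.Finite.trans Γ(X, W) Γ(M, W)
  let j : Γ(M, W) →ₗ[P] Γ(E, W) :=
    { toFun := ι.app W
      map_add' := map_add _
      map_smul' := fun p m => QCohLib.app_smul ι W (algebraMap P Γ(X, W) p) m }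
  haveI := finitePresentation_of_injective hR j (QCohLib.app_injective_of_mono ι W)
  exact Module.FinitePresentation.of_equiv
    ({ AddEquiv.refl _ with map_smul' := fun _ _ => rfl } : Γ(M, W) ≃ₗ[P] AtlasCoh.Sec A M i W le_rfl)

set_option maxHeartbeats 1000000 in
/-- Serre vanishing for twists by a very ample module. -/
theorem exists_vanishing_veryAmple (hR : ∀ (p : Ideal R) [p.IsPrime], ValuationRing (Localization.AtPrime p))
    (f : X ⟶ Spec (CommRingCat.of R)) [IsProper f] [Flat f] {P : X.Modules}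
    (h : RelAmple.IsRelVeryAmplePn f P) {M E : X.Modules} [Coh.IsQCoh M] [Coh.IsQCoh E]
    (hM : CohB1.IsFT M) (hE : CohB1.IsFP E) (ι : M ⟶ E) [Mono ι] :
    ∃ d₀ : ℕ, ∀ d : ℕ, d₀ ≤ d → ∀ p : ℕ, 0 < p →
      Subsingleton (Coh.HH X (CohB1.tensorMod M (CohB1.tensorPow P d)) p) := by
  obtain ⟨n, i, hi, hiq, ⟨φ⟩⟩ := h
  have := hi
  let Y := Spec (CommRingCat.of R)
  have hiq' : i ≫ CohB1.ProjSpaceOver.toBase n Y = f := hiq
  have : IsProper (i ≫ CohB1.ProjSpaceOver.toBase n Y) := by rw [hiq']; infer_instance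
  have : IsSeparated (CohB1.ProjSpaceOver.toBase n Y) := (ChowLib.isProper_toBase n Y).toIsSeparated
  have : UniversallyClosed i := .of_comp_of_isSeparated i (CohB1.ProjSpaceOver.toBase n Y)
  have : IsClosedImmersion i := IsClosedImmersion.of_isPreimmersion i i.isClosedMap.isClosed_range
  let r := i ≫ toPZ n Y
  let O1 := Twist.twist (gr.{u} n) ((1 : ℕ) : ℤ)
  let ψ : KFlatLib.pb r O1 ≅ P :=
    ((Scheme.Modules.pullbackComp i (toPZ n Y)).app _).symm ≪≫ φ.symm
  let glob : Fin (n + 1) → Γ(O1, ⊤) := fun a =>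
    Twist.globalOf (gr.{u} n) ⟨MvPolynomial.X a, X_mem a⟩
  let e : ∀ a, Γ(P, r ⁻¹ᵁ Dplus a) := fun a =>
    ψ.hom.app _ (KFlatLib.puSec r (AmpleLib.res O1 (le_top : Dplus a ≤ ⊤) (glob a)))
  have he : ∀ a, AmpleLib.GenOn P (e a) := fun a => TwistLib.genOn_of_genAt fun x hx =>
    (TwistLib.genAt_app_iso ψ _ hx).mpr
      (TwistLib.GenAt.puSec r ((TwistLib.globalOf_genOn (gr.{u} n) (X_mem a)).genAt hx))
  let τ : Fin (n + 1) → Γ(P, ⊤) := fun j => ψ.hom.app ⊤ (KFlatLib.puSec r (glob j))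
  have hτ : ∀ a j, AmpleLib.res P (le_top : r ⁻¹ᵁ Dplus a ≤ ⊤) (τ j) = coord r a j le_rfl • e a := by
    intro a j
    have hc := TwistLib.frac_smul_globalOf (gr.{u} n) (X_mem a) (X_mem j)
    have hfr : TwistLib.frac (gr.{u} n) (X_mem a) (X_mem j) = coordRing a j := rfl
    rw [hfr] at hc
    have h1 := congrArg (fun t => ψ.hom.app (r ⁻¹ᵁ Dplus a) (KFlatLib.puSec r t)) hc
    have e1 := congrArg (ψ.hom.app (r ⁻¹ᵁ Dplus a)) (TwistLib.puSec_smul r (cj a j)
      (AmpleLib.res O1 (le_top : Dplus a ≤ ⊤) (glob a)))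
    have h3 := (Scheme.Modules.Hom.app_smul ψ.hom _ _).symm.trans (e1.symm.trans h1)
    rw [coord_eq r a j le_rfl]
    rw [Scheme.Hom.app_eq_appLE] at h3
    refine Eq.trans ?_ h3.symm
    exact ((congrArg (ψ.hom.app (r ⁻¹ᵁ Dplus a)) (TwistLib.puSec_res r le_top (glob j))).trans
      (NatTrans.naturality_apply ψ.hom.mapPresheaf (homOfLE (le_top : r ⁻¹ᵁ Dplus a ≤ ⊤)).op _)).symm
  let C := AtlasCoh.coordsOf r
  have htr : ∀ (a b : Fin (n + 1)) (W : X.Opens) (ha : W ≤ C.U a) (hb : W ≤ C.U b),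
      AmpleLib.res P hb (e b) = AtlasCoh.resO ha (C.coord a b) • AmpleLib.res P ha (e a) := by
    intro a b W ha hb
    have hWa : W ≤ r ⁻¹ᵁ Dplus a := ha
    have hWb : W ≤ r ⁻¹ᵁ Dplus b := hb
    have h1 := ((AmpleLib.res_res P le_top hWa (τ b)).symm.trans
      (congrArg (AmpleLib.res P hWa) (hτ a b))).trans (AmpleLib.res_smul P hWa _ _)
    have h2 := ((AmpleLib.res_res P le_top hWb (τ b)).symm.trans
      (congrArg (AmpleLib.res P hWb) (hτ b b))).trans (AmpleLib.res_smul P hWb _ _)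
    rw [RelProjLib.coord_self, map_one, one_smul] at h2
    exact h2.symm.trans h1
  let A : AtlasCoh.Atlas C ⊤ R :=
    AtlasCoh.atlasOf r f i hiq' rfl (W := ⊤) (isAffineOpen_top _)
      (Scheme.ΓSpecIso (CommRingCat.of R)).inv.hom
      (ConcreteCategory.bijective_of_isIso (Scheme.ΓSpecIso (CommRingCat.of R)).inv).2
  have hC : ⨆ a, C.U a = ⊤ := top_le_iff.1 A.le_iSup
  have hfp : ∀ a, Module.FinitePresentation (AtlasCoh.Poly n R)
      (AtlasCoh.Sec A M a ((f ⁻¹ᵁ (⊤ : (Spec (CommRingCat.of R)).Opens)) ⊓ C.U a) le_rfl) := fun a => by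
    refine finitePresentation_sec hR A hM hE ι a ?_
    have hW := A.isAffineOpen_chart a
    have h1 := HasRingHomProperty.appLE @Flat f inferInstance ⟨⊤, isAffineOpen_top _⟩
      ⟨_, hW⟩ (le_top : (f ⁻¹ᵁ (⊤ : (Spec (CommRingCat.of R)).Opens)) ⊓ C.U a ≤ f ⁻¹ᵁ ⊤)
    have h2 : ((Scheme.ΓSpecIso (CommRingCat.of R)).inv.hom).Flat :=
      RingHom.Flat.of_bijective (ConcreteCategory.bijective_of_isIso (Scheme.ΓSpecIso (CommRingCat.of R)).inv)
    exact (h2.comp h1 : _)
  obtain ⟨d₁, hd₁⟩ := PruferVanLib.exists_subsingleton_HU_tw A M hR hC hM hfp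
  refine ⟨d₁.toNat, fun d hd p hp => ?_⟩
  obtain ⟨p, rfl⟩ := Nat.exists_eq_succ_of_ne_zero hp.ne'
  obtain ⟨E⟩ := nonempty_tensor_iso_tw C hC M (CohB1.tensorPow P d) (fun a => pS (e a) d)
    (fun a => pS_genOn (he a) d) d fun a b W ha hb =>
      (pS_res hb (e b) d).trans ((congrArg (fun t => pS t d) (htr a b W ha hb)).trans
        ((pS_smul _ _ d).trans (congrArg (_ • ·) (pS_res ha (e a) d).symm)))
  refine subsingleton_HH_of_iso E _ ?_
  have := hd₁ (d : ℤ) (by omega) p
  exact (QCohLib.hEquiv (Coh.toAb (AtlasCoh.tw M C (d : ℤ))) (p + 1)).injective.subsingleton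

/-- The twisting module of a closed subscheme of projective space is very ample. -/
theorem isRelVeryAmplePn_embedded {A : Type u} [CommRing A] {r : ℕ} (i : X ⟶ CohB1.ProjSpace r A)
    [IsClosedImmersion i] :
    RelAmple.IsRelVeryAmplePn (i ≫ CohB1.ProjSpace.toSpec r A)
      ((Scheme.Modules.pullback i).obj (Twist.twistProjSpace r A 1)) := by
  obtain ⟨j, hj, hd⟩ := PicPnLib.exists_square (n := r) (R := A) (𝟙 (Spec (CommRingCat.of A)))
  haveI : IsIso j := hj.isIso_fst_of_isIso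
  exact ⟨r, i ≫ j, inferInstance, (Category.assoc i j _).trans (congrArg (i ≫ ·) (hj.w.trans (Category.comp_id _))),
    ⟨((Scheme.Modules.pullback i).mapIso (hd 1).some).symm ≪≫ (Scheme.Modules.pullbackComp i j).app _⟩⟩

/-- Serre vanishing on a flat closed subscheme of projective space. -/
theorem exists_vanishing_embedded (hR : ∀ (p : Ideal R) [p.IsPrime], ValuationRing (Localization.AtPrime p))
    {r : ℕ} (i : X ⟶ CohB1.ProjSpace r R) [IsClosedImmersion i] [Flat (i ≫ CohB1.ProjSpace.toSpec r R)]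
    {M E : X.Modules} [Coh.IsQCoh M] [Coh.IsQCoh E]
    (hM : CohB1.IsFT M) (hE : CohB1.IsFP E) (ι : M ⟶ E) [Mono ι] :
    ∃ d₀ : ℕ, ∀ d : ℕ, d₀ ≤ d → ∀ p : ℕ, 0 < p → Subsingleton (Coh.HH X (CohB1.tensorMod M
      (CohB1.tensorPow ((Scheme.Modules.pullback i).obj (Twist.twistProjSpace r R 1)) d)) p) := by
  haveI : IsProper (CohB1.ProjSpace.toSpec r R) := StratLib.isProper_toSpec r R
  exact exists_vanishing_veryAmple hR _ (isRelVeryAmplePn_embedded i) hM hE ι

/-- The kernel of an epimorphism of finitely presented modules is of finite type. -/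
theorem isFT_kernel {F G : X.Modules} [Coh.IsQCoh F] [Coh.IsQCoh G] (hF : CohB1.IsFP F) (hG : CohB1.IsFP G)
    (φ : F ⟶ G) [Epi φ] : CohB1.IsFT (kernel φ) := by
  haveI : Coh.IsQCoh (kernel φ) := QCohLib.isQCoh_kernel φ
  refine QCohLib.isFT_of_finite fun x => ?_
  obtain ⟨U, hU, hx, -⟩ := exists_isAffineOpen_mem_and_subset (x := x) (U := (⊤ : X.Opens)) trivial
  haveI := FittLib.finitePresentation_affine F hF hU
  haveI := FittLib.finitePresentation_affine G hG hU
  haveI : Module.Finite Γ(X, U) (LinearMap.ker (QCohLib.appLin φ U)) := Module.Finite.iff_fg.2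
    (Module.FinitePresentation.fg_ker _ (RichLib.IsFPAffine.appLin_surjective φ hU))
  exact ⟨U, hU, hx, Module.Finite.equiv (RichLib.IsFPAffine.kernelEquiv φ U).symm⟩

/-- The symmetry of tensor products is natural. -/
theorem swap_natural {E E' : X.Modules} (φ : E ⟶ E') (O : X.Modules) :
    ((DCoh.tensorBi (X := X)).map φ).app O ≫ (KFlatLib.tensSwap O E').hom =
      (KFlatLib.tensSwap O E).hom ≫ ((DCoh.tensorBi (X := X)).obj O).map φ :=
  (DCoh.shP.map_comp _ _).symm.trans ((congrArg DCoh.shP.map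
    (BraidedCategory.braiding_naturality_left (DCoh.toP.map φ) (DCoh.toP.obj O))).trans (DCoh.shP.map_comp _ _))

/-- Global sections of a twisted epimorphism lift when the twisted kernel has no first cohomology. -/
theorem surjective_tensor_top {F G : X.Modules} (φ : F ⟶ G) [Epi φ] {L : X.Modules} (hL : PicF.IsInvertible L)
    (h : Subsingleton (Coh.HH X (CohB1.tensorMod (kernel φ) L) 1)) :
    Function.Surjective ((((DCoh.tensorBi (X := X)).map φ).app L).app ⊤) := by
  have hS := HilbPolyLib.shortExact_tensor hL (RichLib.IsFPAffine.shortExact_kernel φ)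
  have h1 : Subsingleton (Coh.HH X (CohB1.tensorMod L (kernel φ)) 1) :=
    SerreVanLib.subsingleton_HH_of_iso (HilbPolyLib.swapIso L (kernel φ)) 1 h
  haveI h2 : Subsingleton (QCohLib.HU ((toAbF X).obj (CohB1.tensorMod L (kernel φ))) 1 ⊤) :=
    @Function.Injective.subsingleton _ _ _ (QCohLib.hEquiv ((toAbF X).obj (CohB1.tensorMod L (kernel φ))) 1).symm.injective h1
  intro w
  obtain ⟨v, hv⟩ := @QCohLib.exists_lift_of_subsingleton _ _ (QCohLib.toAbF_shortExact hS) (⊤ : Opens X.toTopCat) h2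
    ((KFlatLib.tensSwap L G).hom.app ⊤ w)
  refine ⟨(KFlatLib.tensSwap L F).inv.app ⊤ v, ?_⟩
  have e : ((DCoh.tensorBi (X := X)).map φ).app L =
      (KFlatLib.tensSwap L F).hom ≫ ((DCoh.tensorBi (X := X)).obj L).map φ ≫ (KFlatLib.tensSwap L G).inv := by
    rw [← Category.assoc, ← swap_natural φ L, Category.assoc, Iso.hom_inv_id, Category.comp_id]
  rw [e]
  show (KFlatLib.tensSwap L G).inv.app ⊤ ((((DCoh.tensorBi (X := X)).obj L).map φ).app ⊤
    ((KFlatLib.tensSwap L F).hom.app ⊤ ((KFlatLib.tensSwap L F).inv.app ⊤ v))) = w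
  rw [show (KFlatLib.tensSwap L F).hom.app ⊤ ((KFlatLib.tensSwap L F).inv.app ⊤ v) = v from
    congrArg (fun g => g.app ⊤ v) (KFlatLib.tensSwap L F).inv_hom_id]
  refine (congrArg ((KFlatLib.tensSwap L G).inv.app ⊤) hv).trans ?_
  exact congrArg (fun g => g.app ⊤ w) (KFlatLib.tensSwap L G).hom_inv_id

end PruferVanLib
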